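import Mathlib
import Cfsg.Agent.Lib.helper7.Rob1
import Cfsg.Agent.Lib.helper7.BlockOsima
import Cfsg.Agent.Lib.helper7.Conv

/-!
# Project Brandt (S4607): shared definitions

* `GA F G`      : the group algebra of a finite group as functions `G → F` with convolution
                  (ring structure transferred from `MonoidAlgebra`; use `GA.mul_apply`, `GA.one_apply`, ...).
* corner API    : `Algebra F he.Corner` for Mathlib's corner ring `e S e` of an idempotent `e`
                  (`cval`, `cmk`, `cvalLin`, ...).
* `red`, `eBar` : reduction of a function `G → ℂ` with local-integer values modulo the maximal ideal,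
                  the block idempotent modulo the maximal ideal (idempotent, central).
* `BlockAlg`    : the block algebra `ē_B · FG` over the residue field `F = h7_resRing M hMp`, with
                  `toBlock : GA F G →ₗ BlockAlg` (`x ↦ ē x`).
* `IsSymForm`, `CenterLocal`, `NilSet`, `IsMatUnits`, `cenU`, `lamC` : vocabulary of the algebra part.
-/

set_option autoImplicit false
set_option linter.unusedSectionVars false
set_option linter.unusedVariables false
set_option linter.style.haveILetI false
set_option linter.unusedSimpArgs false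

namespace Cfsg.Agent.Lib.helper7.Br

open Cfsg.Agent.Lib.helper7
open scoped ComplexConjugate

/-! ## the corner algebra of an idempotent -/

section corner

variable {F S : Type*} [Field F] [Ring S] [Algebra F S] {e : S} (he : IsIdempotentElem e)

/-- the underlying element of a member of the corner ring `e S e` -/
def cval (x : he.Corner) : S := x.1

theorem cval_injective : Function.Injective (cval he) := fun _ _ h => Subtype.ext h

theorem cval_mem (x : he.Corner) : e * cval he x = cval he x ∧ cval he x * e = cval he x :=
  (Subsemigroup.mem_corner_iff he).mp x.2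

/-- build a member of the corner ring -/
def cmk (x : S) (h1 : e * x = x) (h2 : x * e = x) : he.Corner :=
  ⟨x, (Subsemigroup.mem_corner_iff he).mpr ⟨h1, h2⟩⟩

@[simp] theorem cval_cmk (x : S) (h1 : e * x = x) (h2 : x * e = x) :
    cval he (cmk he x h1 h2) = x := rfl

@[simp] theorem cval_zero : cval he (0 : he.Corner) = 0 := rfl
@[simp] theorem cval_one : cval he (1 : he.Corner) = e := rfl
@[simp] theorem cval_add (x y : he.Corner) : cval he (x + y) = cval he x + cval he y := rfl
@[simp] theorem cval_mul (x y : he.Corner) : cval he (x * y) = cval he x * cval he y := rfl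
@[simp] theorem cval_neg (x : he.Corner) : cval he (-x) = -cval he x := rfl
@[simp] theorem cval_sub (x y : he.Corner) : cval he (x - y) = cval he x - cval he y := rfl

instance cornerSMul : SMul F he.Corner :=
  ⟨fun c x => cmk he (c • cval he x)
    (by rw [mul_smul_comm, (cval_mem he x).1]) (by rw [smul_mul_assoc, (cval_mem he x).2])⟩

@[simp] theorem cval_smul (c : F) (x : he.Corner) : cval he (c • x) = c • cval he x := rfl

/-- `cval` as an additive monoid hom -/
def cvalAdd : he.Corner →+ S where
  toFun := cval he
  map_zero' := rfl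
  map_add' _ _ := rfl

instance cornerModule : Module F he.Corner :=
  Function.Injective.module F (cvalAdd he) (cval_injective he) (fun _ _ => rfl)

instance cornerAlgebra : Algebra F he.Corner :=
  Algebra.ofModule
    (fun c x y => cval_injective he (by simp [smul_mul_assoc]))
    (fun c x y => cval_injective he (by simp [mul_smul_comm]))

theorem cval_algebraMap (c : F) : cval he (algebraMap F he.Corner c) = c • e := by
  rw [Algebra.algebraMap_eq_smul_one]
  rfl

theorem cval_pow (x : he.Corner) (n : ℕ) : cval he (x ^ (n + 1)) = cval he x ^ (n + 1) := by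
  induction n with
  | zero => simp
  | succ n ih => rw [pow_succ, cval_mul, ih, ← pow_succ]

/-- `cval` as a linear map -/
def cvalLin : he.Corner →ₗ[F] S where
  toFun := cval he
  map_add' _ _ := rfl
  map_smul' _ _ := rfl

@[simp] theorem cvalLin_apply (x : he.Corner) : cvalLin (F := F) he x = cval he x := rfl

instance cornerFinite [FiniteDimensional F S] : FiniteDimensional F he.Corner :=
  FiniteDimensional.of_injective (cvalLin (F := F) he) (cval_injective he)

end corner

/-! ## the group algebra as functions with convolution -/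

/-- The group algebra of a finite group over `F`, as functions `G → F` with convolution
`(x * y) g = ∑ h, x h * y (h⁻¹ * g)`. -/
def GA (F G : Type*) : Type _ := G → F

namespace GA

variable {F G : Type*} [CommRing F] [Group G] [Finite G]

/-- the identification with Mathlib's monoid algebra, used only to transfer the ring structure -/
noncomputable def toMA : GA F G ≃ MonoidAlgebra F G :=
  (Finsupp.equivFunOnFinite (α := G) (M := F)).symm.trans MonoidAlgebra.coeffEquiv.symm

noncomputable instance : Ring (GA F G) := toMA.ring
noncomputable instance : Algebra F (GA F G) := toMA.algebra F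

theorem ext {x y : GA F G} (h : ∀ g, x g = y g) : x = y := funext h

theorem toMA_coeff (x : GA F G) (g : G) : (toMA x).coeff g = x g := rfl

theorem toMA_symm_apply (y : MonoidAlgebra F G) (g : G) :
    (toMA.symm y : GA F G) g = y.coeff g := rfl

@[simp] theorem zero_apply (g : G) : (0 : GA F G) g = 0 := rfl
@[simp] theorem add_apply (x y : GA F G) (g : G) : (x + y) g = x g + y g := rfl
@[simp] theorem neg_apply (x : GA F G) (g : G) : (-x) g = -x g := rfl
@[simp] theorem sub_apply (x y : GA F G) (g : G) : (x - y) g = x g - y g := rfl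
@[simp] theorem smul_apply (c : F) (x : GA F G) (g : G) : (c • x) g = c * x g := rfl

theorem sum_apply {ι : Type*} (s : Finset ι) (f : ι → GA F G) (g : G) :
    (∑ i ∈ s, f i) g = ∑ i ∈ s, f i g := by
  classical
  induction s using Finset.induction_on with
  | empty => simp
  | insert a s ha ih => rw [Finset.sum_insert ha, Finset.sum_insert ha, add_apply, ih]

theorem mul_apply [Fintype G] (x y : GA F G) (g : G) :
    (x * y) g = ∑ h : G, x h * y (h⁻¹ * g) := by
  show (toMA.symm (toMA x * toMA y)) g = _
  rw [toMA_symm_apply, MonoidAlgebra.coeff_mul_apply_left,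
    Finsupp.sum_fintype _ _ (fun _ => zero_mul _)]
  rfl

theorem mul_apply' [Fintype G] (x y : GA F G) (g : G) :
    (x * y) g = ∑ h : G, x (g * h⁻¹) * y h := by
  rw [mul_apply]
  refine Fintype.sum_bijective (fun h => h⁻¹ * g) ?_ _ _ fun h => ?_
  · refine ⟨fun a b hab => ?_, fun b => ⟨g * b⁻¹, by group⟩⟩
    exact inv_injective (mul_right_cancel hab)
  · congr 2
    group

theorem one_apply [DecidableEq G] (g : G) : (1 : GA F G) g = if g = 1 then 1 else 0 := by
  show (toMA.symm (1 : MonoidAlgebra F G)) g = _
  rw [toMA_symm_apply, MonoidAlgebra.one_def, MonoidAlgebra.coeff_single, Finsupp.single_apply]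
  simp only [eq_comm]

theorem algebraMap_apply [DecidableEq G] (c : F) (g : G) :
    (algebraMap F (GA F G) c) g = if g = 1 then c else 0 := by
  rw [Algebra.algebraMap_eq_smul_one, smul_apply, one_apply]
  split_ifs <;> simp

/-- the underlying function, as a linear equivalence -/
def toFun' : GA F G ≃ₗ[F] (G → F) where
  toFun x := x
  invFun x := x
  map_add' _ _ := rfl
  map_smul' _ _ := rfl
  left_inv _ := rfl
  right_inv _ := rfl

instance : Module.Finite F (GA F G) := Module.Finite.equiv (toFun' (F := F) (G := G)).symm
instance : Module.Free F (GA F G) := Module.Free.of_equiv (toFun' (F := F) (G := G)).symm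

theorem finrank_eq [Nontrivial F] : Module.finrank F (GA F G) = Nat.card G := by
  rw [LinearEquiv.finrank_eq (toFun' (F := F) (G := G))]
  haveI := Fintype.ofFinite G
  rw [Module.finrank_pi, Nat.card_eq_fintype_card]

/-- class functions are central in the group algebra -/
theorem central_of_class [Fintype G] (e : GA F G)
    (he : ∀ g h : G, e (h * g * h⁻¹) = e g) (x : GA F G) : e * x = x * e := by
  apply GA.ext
  intro g
  rw [GA.mul_apply, GA.mul_apply]
  refine Fintype.sum_bijective (fun h => h⁻¹ * g) ?_ _ _ fun h => ?_
  · refine ⟨fun a b hab => ?_, fun b => ⟨g * b⁻¹, by group⟩⟩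
    exact inv_injective (mul_right_cancel hab)
  · rw [mul_comm]
    congr 1
    have := he h g⁻¹
    rw [← this]
    congr 1
    group

end GA

/-! ## reduction modulo the maximal ideal, block idempotent, block algebra -/

section grp

variable {G : Type*} [Group G] [Fintype G]
variable {M : Ideal Cfsg.AlgInt} (hMp : M.IsPrime)

/-- reduction modulo the maximal ideal of a complex-valued function on `G`, as an element of the
group algebra over the residue field (meaningful when all values are local integers) -/
noncomputable def red (c : G → ℂ) : GA (h7_resRing M hMp) G :=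
  fun g => h7_res M hMp (c g)

theorem red_apply (c : G → ℂ) (g : G) : red hMp c g = h7_res M hMp (c g) := rfl

theorem red_add (a b : G → ℂ) (ha : ∀ g, Cfsg.MemLocalRing M (a g))
    (hb : ∀ g, Cfsg.MemLocalRing M (b g)) : red hMp (a + b) = red hMp a + red hMp b := by
  apply GA.ext
  intro g
  rw [GA.add_apply, red_apply, red_apply, red_apply, Pi.add_apply, h7_res_add hMp (ha g) (hb g)]

theorem red_conv (a b : G → ℂ) (ha : ∀ g, Cfsg.MemLocalRing M (a g))
    (hb : ∀ g, Cfsg.MemLocalRing M (b g)) : red hMp (h7_conv a b) = red hMp a * red hMp b := by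
  apply GA.ext
  intro g
  rw [GA.mul_apply, red_apply, h7_conv_apply,
    h7_res_sum hMp _ _ (fun h _ => h7_memLocalRing_mul hMp (ha h) (hb _))]
  refine Finset.sum_congr rfl fun h _ => ?_
  rw [h7_res_mul hMp (ha h) (hb _)]
  rfl

/-- the block idempotent modulo the maximal ideal -/
noncomputable def eBar (B : Set (Cfsg.IrrCharacter G)) : GA (h7_resRing M hMp) G :=
  red hMp (Cfsg.blockCoeff B)

theorem eBar_apply (B : Set (Cfsg.IrrCharacter G)) (g : G) :
    eBar hMp B g = h7_res M hMp (Cfsg.blockCoeff B g) := rfl

theorem blockCoeff_mem (hMp : M.IsPrime) (B : Set (Cfsg.IrrCharacter G))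
    (hB : Cfsg.IsPBlock M B) (g : G) : Cfsg.MemLocalRing M (Cfsg.blockCoeff B g) := by
  classical
  haveI : Fintype (Cfsg.IrrCharacter G) := Fintype.ofFinite _
  obtain ⟨χ₀, rfl⟩ := hB
  exact h7_osima hMp χ₀ g

theorem blockCoeff_conv (B : Set (Cfsg.IrrCharacter G)) :
    h7_conv (Cfsg.blockCoeff B) (Cfsg.blockCoeff B) = Cfsg.blockCoeff B := by
  classical
  haveI : Fintype (Cfsg.IrrCharacter G) := Fintype.ofFinite _
  funext g
  rw [h7_conv_apply']
  simp only [← h7_coef_indicator]
  rw [← h7_coef_mul]
  congr 1
  funext χ
  simp only [Pi.mul_apply]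
  split_ifs <;> simp

theorem blockCoeff_class (B : Set (Cfsg.IrrCharacter G)) (g h : G) :
    Cfsg.blockCoeff B (h * g * h⁻¹) = Cfsg.blockCoeff B g := by
  classical
  haveI : Fintype (Cfsg.IrrCharacter G) := Fintype.ofFinite _
  rw [← h7_coef_indicator, ← h7_coef_indicator, h7_coef_conj]

theorem eBar_idem (B : Set (Cfsg.IrrCharacter G)) (hB : Cfsg.IsPBlock M B) :
    IsIdempotentElem (eBar hMp B) := by
  unfold IsIdempotentElem eBar
  rw [← red_conv hMp _ _ (blockCoeff_mem hMp B hB) (blockCoeff_mem hMp B hB), blockCoeff_conv]

theorem eBar_class (B : Set (Cfsg.IrrCharacter G)) (g h : G) :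
    eBar hMp B (h * g * h⁻¹) = eBar hMp B g := by
  unfold eBar
  rw [red_apply, red_apply, blockCoeff_class]

theorem eBar_central (B : Set (Cfsg.IrrCharacter G)) (x : GA (h7_resRing M hMp) G) :
    eBar hMp B * x = x * eBar hMp B :=
  GA.central_of_class _ (eBar_class hMp B) x

/-- The block algebra `ē_B · FG` of a block `B`, over the residue field `F = h7_resRing M hMp`:
the corner ring of the central idempotent `ē_B = eBar hMp B` of `GA F G`.  Its members are
`x : GA F G` (via `cval`) with `ē_B * x = x` (and `x * ē_B = x`); its unit is `ē_B`. -/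
abbrev BlockAlg (B : Set (Cfsg.IrrCharacter G)) (hB : Cfsg.IsPBlock M B) : Type _ :=
  (eBar_idem hMp B hB).Corner

/-- the projection `x ↦ ē_B x` of the group algebra onto the block algebra -/
noncomputable def toBlock (B : Set (Cfsg.IrrCharacter G)) (hB : Cfsg.IsPBlock M B) :
    GA (h7_resRing M hMp) G →ₗ[h7_resRing M hMp] BlockAlg hMp B hB where
  toFun x := cmk (eBar_idem hMp B hB) (eBar hMp B * x)
    (by rw [← mul_assoc, (eBar_idem hMp B hB).eq])
    (by rw [eBar_central hMp B x, mul_assoc, (eBar_idem hMp B hB).eq])
  map_add' x y := cval_injective _ (by simp [mul_add])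
  map_smul' c x := cval_injective _ (by simp [mul_smul_comm])

theorem cval_toBlock (B : Set (Cfsg.IrrCharacter G)) (hB : Cfsg.IsPBlock M B)
    (x : GA (h7_resRing M hMp) G) :
    cval (eBar_idem hMp B hB) (toBlock hMp B hB x) = eBar hMp B * x := rfl

theorem toBlock_cval (B : Set (Cfsg.IrrCharacter G)) (hB : Cfsg.IsPBlock M B)
    (x : BlockAlg hMp B hB) : toBlock hMp B hB (cval (eBar_idem hMp B hB) x) = x :=
  cval_injective _ (by rw [cval_toBlock, (cval_mem _ x).1])

theorem toBlock_mul (B : Set (Cfsg.IrrCharacter G)) (hB : Cfsg.IsPBlock M B)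
    (x y : GA (h7_resRing M hMp) G) :
    toBlock hMp B hB (x * y) = toBlock hMp B hB x * toBlock hMp B hB y :=
  cval_injective _ (by
    rw [cval_mul, cval_toBlock, cval_toBlock, cval_toBlock]
    have h1 : eBar hMp B * x * (eBar hMp B * y) = eBar hMp B * (x * eBar hMp B) * y := by
      simp only [mul_assoc]
    rw [h1, ← eBar_central hMp B x, ← mul_assoc (eBar hMp B) (eBar hMp B) x,
      (eBar_idem hMp B hB).eq, mul_assoc])

theorem toBlock_one (B : Set (Cfsg.IrrCharacter G)) (hB : Cfsg.IsPBlock M B) :
    toBlock hMp B hB 1 = 1 :=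
  cval_injective _ (by rw [cval_toBlock, mul_one, cval_one])

theorem toBlock_surjective (B : Set (Cfsg.IrrCharacter G)) (hB : Cfsg.IsPBlock M B) :
    Function.Surjective (toBlock hMp B hB) := fun x => ⟨_, toBlock_cval hMp B hB x⟩

end grp

/-! ## vocabulary of the algebra part -/

section algdefs

variable {F A : Type*} [Field F] [Ring A] [Algebra F A]

/-- `lam` is a symmetrizing form: `lam (a b) = lam (b a)` and `a ↦ lam (a ·)` is injective -/
def IsSymForm (lam : A →ₗ[F] F) : Prop :=
  (∀ a b : A, lam (a * b) = lam (b * a)) ∧ ∀ a : A, (∀ b : A, lam (a * b) = 0) → a = 0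

/-- the centre is local: every central element is a scalar plus a nilpotent element -/
def CenterLocal (F A : Type*) [Field F] [Ring A] [Algebra F A] : Prop :=
  ∀ z ∈ Subalgebra.center F A, ∃ α : F, IsNilpotent (z - algebraMap F A α)

/-- every product of `m` elements of `S` vanishes, for some `m` -/
def NilSet (S : Set A) : Prop :=
  ∃ m : ℕ, ∀ l : List A, l.length = m → (∀ x ∈ l, x ∈ S) → l.prod = 0

/-- a full system of matrix units -/
def IsMatUnits {n : ℕ} (u : Fin n → Fin n → A) : Prop :=
  (∀ i j k l, u i j * u k l = if j = k then u i l else 0) ∧ ∑ i, u i i = 1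

/-- the centralizer of a system of matrix units -/
def cenU (F : Type*) [Field F] [Algebra F A] {n : ℕ} (u : Fin n → Fin n → A) : Subalgebra F A :=
  Subalgebra.centralizer F (Set.range fun ij : Fin n × Fin n => u ij.1 ij.2)

theorem mem_cenU {n : ℕ} (u : Fin n → Fin n → A) (c : A) :
    c ∈ cenU F u ↔ ∀ i j, u i j * c = c * u i j := by
  unfold cenU
  rw [Subalgebra.mem_centralizer_iff]
  constructor
  · intro h i j
    exact h _ ⟨(i, j), rfl⟩
  · rintro h _ ⟨ij, rfl⟩
    exact h ij.1 ij.2

/-- the form `c ↦ lam (u₀₀ c)` on the centralizer of the matrix units -/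
noncomputable def lamC {n : ℕ} (u : Fin (n + 1) → Fin (n + 1) → A) (lam : A →ₗ[F] F) :
    ↥(cenU F u) →ₗ[F] F :=
  lam ∘ₗ (LinearMap.mulLeft F (u 0 0)) ∘ₗ (cenU F u).val.toLinearMap

theorem lamC_apply {n : ℕ} (u : Fin (n + 1) → Fin (n + 1) → A) (lam : A →ₗ[F] F)
    (c : ↥(cenU F u)) : lamC u lam c = lam (u 0 0 * (c : A)) := rfl

end algdefs

end Cfsg.Agent.Lib.helper7.Br
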