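import Mathlib
import Cfsg.Agent.Lib.helper7.Br.Defs
import Cfsg.Agent.Lib.helper7.BlockRadical

/-!
Project Brandt, piece LOCB: the centre of the block algebra is local.
-/

set_option autoImplicit false
set_option linter.unusedSectionVars false
set_option linter.unusedVariables false
set_option linter.style.haveILetI false
set_option linter.unusedSimpArgs false

namespace Cfsg.Agent.Lib.helper7.Br

open Cfsg.Agent.Lib.helper7
open scoped ComplexConjugate

section

variable {G : Type*} [Group G] [Fintype G] [Fintype (Cfsg.IrrCharacter G)]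
variable {M : Ideal Cfsg.AlgInt} (hMp : M.IsPrime)

/-- `Θ c` : the reduction of the central element with spectral coordinates `c` -/
noncomputable def theta (c : Cfsg.IrrCharacter G → ℂ) : GA (h7_resRing M hMp) G :=
  red hMp (h7_coef c)

theorem theta_mul (c d : Cfsg.IrrCharacter G → ℂ) (hc : c ∈ h7_intSubring (G := G) M hMp)
    (hd : d ∈ h7_intSubring (G := G) M hMp) :
    theta hMp (c * d) = theta hMp c * theta hMp d := by
  unfold theta
  rw [← red_conv hMp _ _ hc hd]
  congr 1
  funext g
  rw [h7_coef_mul, h7_conv_apply']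

theorem theta_add (c d : Cfsg.IrrCharacter G → ℂ) (hc : c ∈ h7_intSubring (G := G) M hMp)
    (hd : d ∈ h7_intSubring (G := G) M hMp) :
    theta hMp (c + d) = theta hMp c + theta hMp d := by
  unfold theta
  rw [← red_add hMp _ _ hc hd]
  congr 1
  funext g
  rw [h7_coef_add, Pi.add_apply]

theorem theta_pow (c : Cfsg.IrrCharacter G → ℂ) (hc : c ∈ h7_intSubring (G := G) M hMp) (n : ℕ) :
    theta hMp (c ^ (n + 1)) = theta hMp c ^ (n + 1) := by
  induction n with
  | zero => simp
  | succ n ih =>
    rw [pow_succ, theta_mul hMp _ _ (Subring.pow_mem _ hc _) hc, ih, ← pow_succ]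

theorem theta_class (c : Cfsg.IrrCharacter G → ℂ) (g h : G) :
    theta hMp c (h * g * h⁻¹) = theta hMp c g := by
  unfold theta
  rw [red_apply, red_apply, h7_coef_conj]

open Classical in
theorem theta_indicator (B : Set (Cfsg.IrrCharacter G)) :
    theta hMp (fun χ : Cfsg.IrrCharacter G => if χ ∈ B then (1 : ℂ) else 0) = eBar hMp B := by
  unfold theta eBar
  congr 1
  funext g
  exact h7_coef_indicator B g

open Classical in
theorem theta_centralChar (x g : G) :
    theta hMp (fun χ : Cfsg.IrrCharacter G => Cfsg.centralChar (χ : G → ℂ) x) g =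
      if IsConj g x then 1 else 0 := by
  unfold theta
  rw [red_apply, h7_coef_centralChar]
  split_ifs
  · exact h7_res_one hMp
  · exact h7_res_zero hMp

open Classical in
theorem theta_const (s : ℂ) (hs : Cfsg.MemLocalRing M s) :
    theta hMp (fun _ : Cfsg.IrrCharacter G => s) = h7_res M hMp s • (1 : GA (h7_resRing M hMp) G) := by
  apply GA.ext
  intro g
  unfold theta
  rw [red_apply, h7_coef_const, GA.smul_apply, GA.one_apply]
  split_ifs
  · rw [mul_one]
  · rw [mul_zero, h7_res_zero]

end

section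

variable {G : Type*} [Group G] [Fintype G]
variable {M : Ideal Cfsg.AlgInt}

/-- a central element of the group algebra is a class function -/
theorem GA.class_of_central {F : Type*} [CommRing F] (x : GA F G)
    (hx : ∀ y : GA F G, x * y = y * x) (g h : G) : x (h * g * h⁻¹) = x g := by
  classical
  set δ : GA F G := fun k => if k = h then (1 : F) else 0 with hδ
  have h1 : (x * δ) (h * g) = (δ * x) (h * g) := by rw [hx δ]
  rw [GA.mul_apply', GA.mul_apply] at h1
  rw [Finset.sum_eq_single h, Finset.sum_eq_single h] at h1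
  · simp only [hδ, if_true, mul_one, one_mul] at h1
    rw [h1]
    congr 1
    group
  · intro k _ hk
    rw [hδ]
    simp only [if_neg hk, zero_mul]
  · intro hh
    exact absurd (Finset.mem_univ h) hh
  · intro k _ hk
    rw [hδ]
    simp only [if_neg hk, mul_zero]
  · intro hh
    exact absurd (Finset.mem_univ h) hh

theorem centerLocal_blockAlg_aux {p : ℕ} [Fact p.Prime] (hM : Cfsg.IsPModular p M)
    (hMp : M.IsPrime) (χ₀ : Cfsg.IrrCharacter G)
    (hB : Cfsg.IsPBlock M (Cfsg.blockOf M (χ₀ : G → ℂ))) :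
    CenterLocal (h7_resRing M hMp) (BlockAlg hMp (Cfsg.blockOf M (χ₀ : G → ℂ)) hB) := by
  classical
  haveI : Fintype (Cfsg.IrrCharacter G) := Fintype.ofFinite _
  have he := eBar_idem hMp (Cfsg.blockOf M (χ₀ : G → ℂ)) hB
  set ē := eBar hMp (Cfsg.blockOf M (χ₀ : G → ℂ)) with hē
  intro z hz
  set x : GA (h7_resRing M hMp) G := cval he z with hx
  have hex : ē * x = x := (cval_mem he z).1
  -- x is central in the group algebra
  have hxc : ∀ y : GA (h7_resRing M hMp) G, x * y = y * x := by
    intro y
    have h1 := (Subalgebra.mem_center_iff.mp hz) (toBlock hMp _ hB y)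
    have h2 := congrArg (cval he) h1
    rw [cval_mul, cval_mul, cval_toBlock] at h2
    -- h2 : ē * y * x = x * (ē * y)
    have h3 : x * (ē * y) = x * y := by
      rw [← mul_assoc, ← eBar_central, hex]
    have h4 : ē * y * x = y * x := by
      rw [eBar_central, mul_assoc, hex]
    rw [← h3, ← h4]
    exact h2.symm
  have hxcl : ∀ g h : G, x (h * g * h⁻¹) = x g := GA.class_of_central x hxc
  -- spectral coordinates
  set 𝒜 := h7_intSubring (G := G) M hMp with h𝒜
  set ind : Cfsg.IrrCharacter G → ℂ := fun χ =>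
    if χ ∈ Cfsg.blockOf M (χ₀ : G → ℂ) then (1 : ℂ) else 0 with hind
  have hindm : ind ∈ 𝒜 := h7_block_indicator_mem hMp χ₀
  set ω : G → Cfsg.IrrCharacter G → ℂ := fun r χ => Cfsg.centralChar (χ : G → ℂ) r with hω
  have hωm : ∀ r, ω r ∈ 𝒜 := fun r => h7_centralChar_mem hMp r
  set κ : G → Cfsg.IrrCharacter G → ℂ := fun r _ => Cfsg.centralChar (χ₀ : G → ℂ) r with hκ
  have hκR : ∀ r, Cfsg.MemLocalRing M (Cfsg.centralChar (χ₀ : G → ℂ) r) :=
    fun r => h7_memLocalRing_centralChar hMp χ₀ r
  have hκm : ∀ r, κ r ∈ 𝒜 := fun r => h7_const_mem hMp (hκR r)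
  -- the nilpotent parts
  set ν : G → Cfsg.IrrCharacter G → ℂ := fun r => ind * (ω r - κ r) with hν
  have hνm : ∀ r, ν r ∈ 𝒜 := fun r => Subring.mul_mem _ hindm (Subring.sub_mem _ (hωm r) (hκm r))
  have hνI : ∀ r χ, Cfsg.MemLocalIdeal M (ν r χ) := by
    intro r χ
    simp only [hν, Pi.mul_apply, Pi.sub_apply, hind, hω, hκ]
    by_cases hχ : χ ∈ Cfsg.blockOf M (χ₀ : G → ℂ)
    · rw [if_pos hχ, one_mul]
      have := hχ r
      have h2 := h7_memLocalIdeal_neg this
      rwa [neg_sub] at h2
    · rw [if_neg hχ, zero_mul]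
      exact h7_memLocalIdeal_zero hMp
  have hνnil : ∀ r, IsNilpotent (theta hMp (ν r)) := by
    intro r
    obtain ⟨N, hN⟩ := h7_radical_pow hM (ν r) (hνI r)
    refine ⟨N + 1, ?_⟩
    rw [← theta_pow hMp _ (hνm r)]
    apply GA.ext
    intro g
    unfold theta
    rw [red_apply, GA.zero_apply, h7_res_eq_zero_iff hMp]
    · exact hN g
    · exact (Subring.pow_mem _ (hνm r) _) g
  -- theta (ν r) = ē * δ_r - res(κ r) • ē
  have hθν : ∀ r, theta hMp (ν r) =
      ē * theta hMp (ω r) - h7_res M hMp (Cfsg.centralChar (χ₀ : G → ℂ) r) • ē := by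
    intro r
    have e1 : ν r = ind * ω r + -(ind * κ r) := by
      rw [hν]
      ring
    rw [e1, theta_add hMp _ _ (Subring.mul_mem _ hindm (hωm r))
      (Subring.neg_mem _ (Subring.mul_mem _ hindm (hκm r)))]
    rw [theta_mul hMp _ _ hindm (hωm r)]
    have e2 : theta hMp (-(ind * κ r)) = -(theta hMp (ind * κ r)) := by
      apply GA.ext
      intro g
      unfold theta
      rw [red_apply, GA.neg_apply, red_apply, h7_coef_neg]
      have hm : Cfsg.MemLocalRing M (h7_coef (ind * κ r) g) := (Subring.mul_mem _ hindm (hκm r)) g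
      have h5 := h7_res_add hMp (h7_memLocalRing_neg hm) hm
      rw [neg_add_cancel, h7_res_zero] at h5
      exact eq_neg_of_add_eq_zero_left h5.symm
    rw [e2, theta_mul hMp _ _ hindm (hκm r), theta_indicator, theta_const hMp _ (hκR r)]
    rw [mul_smul_comm, mul_one, sub_eq_add_neg]
  -- decomposition of x over conjugacy classes
  set rep : ConjClasses G → G := fun C => Quotient.out C with hrep
  have hmkrep : ∀ C : ConjClasses G, ConjClasses.mk (rep C) = C := fun C => Quotient.out_eq C
  have hxrep : ∀ g : G, x (rep (ConjClasses.mk g)) = x g := by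
    intro g
    have hc : IsConj (rep (ConjClasses.mk g)) g := by
      rw [← ConjClasses.mk_eq_mk_iff_isConj]
      exact hmkrep _
    obtain ⟨u, hu⟩ := isConj_iff.mp hc
    have h1 := hxcl (rep (ConjClasses.mk g)) u
    rw [hu] at h1
    exact h1.symm
  have hxdec : x = ∑ C : ConjClasses G, x (rep C) • theta hMp (ω (rep C)) := by
    apply GA.ext
    intro g
    rw [GA.sum_apply]
    rw [Finset.sum_eq_single (ConjClasses.mk g)]
    · rw [GA.smul_apply, theta_centralChar, if_pos, mul_one, hxrep]
      rw [← ConjClasses.mk_eq_mk_iff_isConj]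
      exact (hmkrep _).symm
    · intro C _ hC
      rw [GA.smul_apply, theta_centralChar, if_neg, mul_zero]
      intro hc
      apply hC
      rw [← ConjClasses.mk_eq_mk_iff_isConj] at hc
      rw [hc]
      exact (hmkrep C).symm
    · intro h
      exact absurd (Finset.mem_univ _) h
  -- the scalar
  obtain ⟨a, ha⟩ : ∃ a : ConjClasses G → h7_resRing M hMp, a = fun C => x (rep C) := ⟨_, rfl⟩
  have hxdec' : x = ∑ C : ConjClasses G, a C • theta hMp (ω (rep C)) := by
    rw [ha]
    exact hxdec
  set α : h7_resRing M hMp :=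
    ∑ C : ConjClasses G, a C * h7_res M hMp (Cfsg.centralChar (χ₀ : G → ℂ) (rep C)) with hα
  have hdiff : x - α • ē = ∑ C : ConjClasses G, a C • theta hMp (ν (rep C)) := by
    have e1 : x = ∑ C : ConjClasses G, a C • (ē * theta hMp (ω (rep C))) := by
      calc x = ē * x := hex.symm
        _ = ē * ∑ C : ConjClasses G, a C • theta hMp (ω (rep C)) := by rw [← hxdec']
        _ = _ := by
          rw [Finset.mul_sum]
          refine Finset.sum_congr rfl fun C _ => ?_
          rw [mul_smul_comm]
    rw [e1, hα, Finset.sum_smul, ← Finset.sum_sub_distrib]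
    refine Finset.sum_congr rfl fun C _ => ?_
    rw [hθν, smul_sub, smul_smul]
  have hnil : IsNilpotent (x - α • ē) := by
    rw [hdiff]
    apply Commute.isNilpotent_sum
    · intro C _
      exact (hνnil (rep C)).smul _
    · intro C C' _ _
      have : theta hMp (ν (rep C)) * theta hMp (ν (rep C')) =
          theta hMp (ν (rep C')) * theta hMp (ν (rep C)) :=
        GA.central_of_class _ (theta_class hMp _) _
      show _ * _ = _ * _
      rw [smul_mul_smul_comm, smul_mul_smul_comm, this, mul_comm (a C)]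
  refine ⟨α, ?_⟩
  obtain ⟨k, hk⟩ := hnil
  refine ⟨k + 1, ?_⟩
  apply cval_injective he
  rw [cval_pow, cval_sub, cval_algebraMap, cval_zero, pow_succ, hk, zero_mul]

/-- LOCB : the centre of the block algebra is local. -/
theorem centerLocal_blockAlg {p : ℕ} [Fact p.Prime] (hM : Cfsg.IsPModular p M)
    (B : Set (Cfsg.IrrCharacter G)) (hB : Cfsg.IsPBlock M B) :
    CenterLocal (h7_resRing M hM.2.1.isPrime) (BlockAlg hM.2.1.isPrime B hB) := by
  obtain ⟨χ₀, rfl⟩ := hB
  exact centerLocal_blockAlg_aux hM hM.2.1.isPrime χ₀ ⟨χ₀, rfl⟩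

end

end Cfsg.Agent.Lib.helper7.Br
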