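import Mathlib
import Cfsg.Agent.Lib.helper7.Br.Defs

/-!
Project Brandt, piece DIM: the dimension of the block algebra.
-/

set_option autoImplicit false
set_option linter.unusedSectionVars false
set_option linter.unusedVariables false
set_option linter.style.haveILetI false

namespace Cfsg.Agent.Lib.helper7.Br

open Cfsg.Agent.Lib.helper7

/-- the rank of an idempotent complex matrix is its trace -/
theorem rank_eq_trace_of_idem {ι : Type*} [Fintype ι] [DecidableEq ι] (E : Matrix ι ι ℂ)
    (hE : E * E = E) : (E.rank : ℂ) = E.trace := by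
  have hid : IsIdempotentElem (Matrix.toLin' E) := by
    unfold IsIdempotentElem
    rw [Module.End.mul_eq_comp, ← Matrix.toLin'_mul, hE]
  have hproj := (LinearMap.isProj_range_iff_isIdempotentElem (Matrix.toLin' E)).mpr hid
  have h1 := hproj.trace
  rw [Matrix.trace_toLin'_eq] at h1
  rw [h1]
  rfl

section

variable {G : Type*} [Group G] [Fintype G]
variable {M : Ideal Cfsg.AlgInt}

/-- DIM : `dim_F (ē_B FG) = |G| · (coefficient of 1 in e_B) = Σ_{χ ∈ B} χ(1)²`. -/
theorem finrank_blockAlg [DecidableEq G] (hMp : M.IsPrime) (B : Set (Cfsg.IrrCharacter G))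
    (hB : Cfsg.IsPBlock M B)
    (hRK : ∀ E : Matrix G G ℂ, E * E = E → (∀ i j, Cfsg.MemLocalRing M (E i j)) →
      (E.map (h7_res M hMp)).rank = E.rank) :
    (Module.finrank (h7_resRing M hMp) (BlockAlg hMp B hB) : ℂ) =
      (Nat.card G : ℂ) * Cfsg.blockCoeff B 1 := by
  have he := eBar_idem hMp B hB
  set E : Matrix G G ℂ := fun g h => Cfsg.blockCoeff B (g * h⁻¹) with hEdef
  have hE : E * E = E := by
    ext g k
    rw [Matrix.mul_apply]
    have h1 := congrFun (blockCoeff_conv B) (g * k⁻¹)
    rw [h7_conv_apply] at h1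
    simp only [hEdef]
    rw [← h1]
    refine Fintype.sum_bijective (fun h => g * h⁻¹) ?_ _ _ fun h => ?_
    · refine ⟨fun a b hab => ?_, fun b => ⟨b⁻¹ * g, by group⟩⟩
      exact inv_injective (mul_left_cancel hab)
    · congr 2
      group
  have hR : ∀ i j, Cfsg.MemLocalRing M (E i j) := fun i j => blockCoeff_mem hMp B hB _
  have hrk := hRK E hE hR
  have htr : (E.rank : ℂ) = (Nat.card G : ℂ) * Cfsg.blockCoeff B 1 := by
    rw [rank_eq_trace_of_idem E hE, Matrix.trace]
    have : ∀ x : G, Matrix.diag E x = Cfsg.blockCoeff B 1 := by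
      intro x
      show Cfsg.blockCoeff B (x * x⁻¹) = _
      rw [mul_inv_cancel]
    rw [Finset.sum_congr rfl (fun x _ => this x), Finset.sum_const, Finset.card_univ,
      nsmul_eq_mul, Nat.card_eq_fintype_card]
  rw [← htr, ← hrk]
  congr 1
  -- finrank of the block algebra = rank of the reduced matrix
  set Ebar : Matrix G G (h7_resRing M hMp) := E.map (h7_res M hMp) with hEbar
  have hmv : ∀ v : G → h7_resRing M hMp, Ebar.mulVecLin v =
      GA.toFun' (eBar hMp B * (GA.toFun' (F := h7_resRing M hMp) (G := G)).symm v) := by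
    intro v
    funext g
    rw [Matrix.mulVecLin_apply, Matrix.mulVec, dotProduct]
    show _ = (eBar hMp B * (GA.toFun' (F := h7_resRing M hMp) (G := G)).symm v) g
    rw [GA.mul_apply']
    rfl
  set L : BlockAlg hMp B hB →ₗ[h7_resRing M hMp] (G → h7_resRing M hMp) :=
    (GA.toFun' (F := h7_resRing M hMp) (G := G)).toLinearMap ∘ₗ cvalLin he with hL
  have hLinj : Function.Injective L := by
    intro z w hzw
    apply cval_injective he
    exact (GA.toFun' (F := h7_resRing M hMp) (G := G)).injective hzw
  have hrange : LinearMap.range L = LinearMap.range Ebar.mulVecLin := by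
    ext v
    constructor
    · rintro ⟨z, rfl⟩
      refine ⟨GA.toFun' (cval he z), ?_⟩
      rw [hmv]
      show GA.toFun' (eBar hMp B * cval he z) = GA.toFun' (cval he z)
      rw [(cval_mem he z).1]
    · rintro ⟨w, rfl⟩
      refine ⟨toBlock hMp B hB ((GA.toFun' (F := h7_resRing M hMp) (G := G)).symm w), ?_⟩
      rw [hmv]
      rfl
  rw [← LinearMap.finrank_range_of_inj hLinj, hrange]
  rfl

end

end Cfsg.Agent.Lib.helper7.Br
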