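import Mathlib
import Cfsg.Agent.Lib.helper7.Br.Defs
import Cfsg.Agent.Lib.Helper24.BrLOC
import Cfsg.Agent.Lib.Helper24.BrSQ
import Cfsg.Agent.Lib.Helper13.BrMU
import Cfsg.Agent.Lib.Helper13.BrMD1
import Cfsg.Agent.Lib.Helper20.BrMD234

/-!
Project Brandt: Külshammer's theorem.  A finite-dimensional symmetric algebra over an algebraically
closed field whose centre is local of dimension 2 has dimension `2 f²`.
(Pieces: LOC, SQ by helper24; MU, MD1 by helper13; MD2-4 by helper20.)
-/

set_option autoImplicit false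
set_option linter.unusedSectionVars false
set_option linter.unusedVariables false

namespace Cfsg.Agent.Lib.helper7.Br

variable {F A : Type*} [Field F] [Ring A] [Algebra F A]

theorem kuelshammer [IsAlgClosed F] [FiniteDimensional F A]
    (lam : A →ₗ[F] F) (hlam : IsSymForm lam) (hloc : CenterLocal F A)
    (hZ : Module.finrank F (Subalgebra.center F A) = 2) :
    ∃ f : ℕ, Module.finrank F A = 2 * f ^ 2 := by
  obtain ⟨hJnil, n, ⟨φ⟩⟩ := Cfsg.Agent.Lib.Helper24.Br.exists_simple_quot lam hlam hloc hZ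
  obtain ⟨u, hu, hφ⟩ :=
    Cfsg.Agent.Lib.Helper13.Br.exists_matUnits (Ring.jacobson A) hJnil (n + 1) φ
  have h1 := Cfsg.Agent.Lib.Helper13.Br.matUnits_finrank (F := F) u hu
  have h2 := Cfsg.Agent.Lib.Helper20.Br.matUnits_center (F := F) u hu
  have h3 := Cfsg.Agent.Lib.Helper20.Br.matUnits_form u hu lam hlam
  set C := cenU F u with hC
  set N : Ideal C := Ideal.comap (C.val : C →+* A) (Ring.jacobson A) with hN
  have hmemN : ∀ x : C, x ∈ N ↔ (x : A) ∈ Ring.jacobson A := fun x => Iff.rfl
  have hle : Module.finrank F C ≤ 2 := by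
    refine Cfsg.Agent.Lib.Helper24.Br.local_sym_le_two (lamC u lam) h3 N ?_ ?_ ?_ ?_
    · intro x hx y
      rw [hmemN] at hx ⊢
      rw [Subalgebra.coe_mul]
      exact Ideal.mul_mem_right _ _ hx
    · obtain ⟨m, hm⟩ := hJnil
      refine ⟨m, fun l hl hmem => ?_⟩
      have h4 := hm (l.map (fun x : C => (x : A))) (by rw [List.length_map, hl]) (by
        intro x hx
        obtain ⟨y, hy, rfl⟩ := List.mem_map.mp hx
        exact (hmemN y).mp (hmem y hy))
      apply Subtype.ext
      have h5 : ((l.prod : C) : A) = (l.map (fun x : C => (x : A))).prod :=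
        map_list_prod C.val l
      rw [h5, h4]
      rfl
    · intro x
      obtain ⟨α, hα⟩ := Cfsg.Agent.Lib.Helper20.Br.matUnits_local (Ring.jacobson A) (n + 1) φ u hφ
        (x : A) x.2
      exact ⟨α, hα⟩
    · rw [h2, hZ]
  have hge : 2 ≤ Module.finrank F C := by
    rw [← hZ, ← h2]
    exact Submodule.finrank_le (Subalgebra.toSubmodule (Subalgebra.center F C))
  have heq : Module.finrank F C = 2 := le_antisymm hle hge
  refine ⟨n + 1, ?_⟩
  rw [h1, heq]
  ring

end Cfsg.Agent.Lib.helper7.Br
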