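import Mathlib
import Cfsg.Agent.Lib.helper7.Br.Defs

/-!
Project Brandt, piece SYM: the block algebra is a symmetric algebra.
-/

set_option autoImplicit false
set_option linter.unusedSectionVars false
set_option linter.unusedVariables false
set_option linter.style.haveILetI false

namespace Cfsg.Agent.Lib.helper7.Br

open Cfsg.Agent.Lib.helper7

section

variable {G : Type*} [Group G] [Fintype G]
variable {M : Ideal Cfsg.AlgInt}

/-- SYM : the block algebra is symmetric (`lam x` = coefficient of `1`). -/
theorem symForm_blockAlg (hMp : M.IsPrime) (B : Set (Cfsg.IrrCharacter G))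
    (hB : Cfsg.IsPBlock M B) :
    ∃ lam : BlockAlg hMp B hB →ₗ[h7_resRing M hMp] h7_resRing M hMp, IsSymForm lam := by
  classical
  have he := eBar_idem hMp B hB
  let lam : BlockAlg hMp B hB →ₗ[h7_resRing M hMp] h7_resRing M hMp :=
    { toFun := fun z => cval he z 1
      map_add' := fun z w => by rw [cval_add, GA.add_apply]
      map_smul' := fun c z => by rw [cval_smul, GA.smul_apply]; rfl }
  have hlam : ∀ z, lam z = cval he z 1 := fun z => rfl
  refine ⟨lam, ?_, ?_⟩
  · intro z w
    rw [hlam, hlam, cval_mul, cval_mul, GA.mul_apply, GA.mul_apply']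
    refine Finset.sum_congr rfl fun h _ => ?_
    rw [mul_one, one_mul, mul_comm]
  · intro z hz
    apply cval_injective he
    rw [cval_zero]
    apply GA.ext
    intro g
    rw [GA.zero_apply]
    set δ : GA (h7_resRing M hMp) G := fun k => if k = g⁻¹ then 1 else 0 with hδ
    have h1 := hz (toBlock hMp B hB δ)
    rw [hlam, cval_mul, cval_toBlock, ← mul_assoc, ← eBar_central, (cval_mem he z).1,
      GA.mul_apply'] at h1
    rw [Finset.sum_eq_single g⁻¹] at h1
    · simpa [hδ] using h1
    · intro k _ hk
      rw [hδ]
      simp only [if_neg hk, mul_zero]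
    · intro hh
      exact absurd (Finset.mem_univ _) hh

end

end Cfsg.Agent.Lib.helper7.Br
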