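import Mathlib
import Cfsg.Agent.Lib.helper7.Br.Defs
import Cfsg.Agent.Lib.helper7.Br.Kuel
import Cfsg.Agent.Lib.helper7.Br.LocB
import Cfsg.Agent.Lib.helper7.Br.Sym
import Cfsg.Agent.Lib.helper7.Br.Dim
import Cfsg.Agent.Lib.helper7.HKS8
import Cfsg.Agent.Lib.Helper24.BrAR
import Cfsg.Agent.Lib.Helper24.BrRK
import Cfsg.Agent.Lib.Helper21.BrAC
import Cfsg.Agent.Lib.Helper1.BrCEN
import Cfsg.Agent.Lib.Helper25.BrCH2
import Cfsg.Agent.Lib.Helper25.BrCONV

/-!
Project Brandt: a `p`-block has exactly two irreducible characters iff its defect groups have order 2.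
-/

set_option autoImplicit false
set_option linter.unusedSectionVars false
set_option linter.unusedVariables false
set_option linter.style.haveILetI false

namespace Cfsg.Agent.Lib.helper7.Br

open Cfsg.Agent.Lib.helper7

theorem brandt_forward {G : Type*} [Group G] [Finite G] (p : ℕ) [Fact p.Prime]
    (M : Ideal Cfsg.AlgInt) (hM : Cfsg.IsPModular p M) (B : Set (Cfsg.IrrCharacter G))
    (hB : Cfsg.IsPBlock M B) (hk : Nat.card B = 2) : p ^ Cfsg.blockDefect p B = 2 := by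
  classical
  haveI : Fintype G := Fintype.ofFinite G
  haveI : IsAlgClosed (h7_resRing M hM.2.1.isPrime) :=
    Cfsg.Agent.Lib.Helper21.Br.resRing_isAlgClosed hM
  obtain ⟨s, t, m, hst, h1, hm, h2⟩ := Cfsg.Agent.Lib.Helper25.Br.two_chars_arith p M hM B hB hk
  obtain ⟨lam, hlam⟩ := symForm_blockAlg hM.2.1.isPrime B hB
  have hloc := centerLocal_blockAlg hM B hB
  have hZ := Cfsg.Agent.Lib.Helper1.Br.finrank_center_blockAlg hM.2.1.isPrime B hB
    (fun E hE hR => Cfsg.Agent.Lib.Helper24.Br.rank_red_idem hM.2.1.isPrime E hE hR)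
  rw [hk] at hZ
  obtain ⟨f, hf⟩ := kuelshammer lam hlam hloc hZ
  have hdim := finrank_blockAlg hM.2.1.isPrime B hB
    (fun E hE hR => Cfsg.Agent.Lib.Helper24.Br.rank_red_idem hM.2.1.isPrime E hE hR)
  rw [hf, h2] at hdim
  have h3 : (s ^ 2 + t ^ 2) * m ^ 2 = 2 * f ^ 2 := by exact_mod_cast hdim.symm
  exact Cfsg.Agent.Lib.Helper24.Br.arith_final p _ s t m f (Fact.out) hst h1 hm h3

theorem brandt {G : Type*} [Group G] [Finite G] (p : ℕ) [Fact p.Prime] (M : Ideal Cfsg.AlgInt)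
    (hM : Cfsg.IsPModular p M) (B : Set (Cfsg.IrrCharacter G)) (hB : Cfsg.IsPBlock M B)
    (D : Subgroup G) (hD : Cfsg.IsDefectGroup p M B D) : Nat.card B = 2 ↔ Nat.card D = 2 := by
  rw [h7_hk_defect_card p M hM B hB D hD]
  exact ⟨brandt_forward p M hM B hB,
    Cfsg.Agent.Lib.Helper25.Br.card_two_of_defect_two p M hM B hB⟩

end Cfsg.Agent.Lib.helper7.Br
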